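import Mathlib

/-!
# S3540 / S3577, HT-E, E1 (helper559): `exists_F`

A maximal abelian normal subgroup `A`, and either a perfect normal subgroup `L` all of whose `G`-normal subgroups are `L`
or central in `L`, or a normal subgroup `F ≥ A` of class 2 with `C(F) ≤ A`, `F / A` abelian of squarefree exponent.
-/

set_option autoImplicit false

open scoped commutatorElement

namespace Cfsg.Agent.H559.HT

open Subgroup

universe u

variable {G : Type u} [Group G]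

/-- `[K A, K A] ≤ [K, K]` if `A` is central in `K A` -/
theorem comm_sup_le {K A : Subgroup G} (hAn : A.Normal) (hc : ∀ x ∈ K ⊔ A, ∀ y ∈ A, x * y = y * x) :
    ⁅K ⊔ A, K ⊔ A⁆ ≤ ⁅K, K⁆ := by
  rw [commutator_le]
  intro x hx y hy
  obtain ⟨k, hk, a, ha, rfl⟩ := mem_sup_of_normal_right.1 hx
  obtain ⟨k', hk', a', ha', rfl⟩ := mem_sup_of_normal_right.1 hy
  have h1 : Commute k a := hc k (mem_sup_left hk) a ha
  have h2 : Commute k a' := hc k (mem_sup_left hk) a' ha'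
  have h3 : Commute k' a := hc k' (mem_sup_left hk') a ha
  have h4 : Commute k' a' := hc k' (mem_sup_left hk') a' ha'
  have h5 : Commute a a' := hc a (mem_sup_right ha) a' ha'
  have e : ⁅k * a, k' * a'⁆ = ⁅k, k'⁆ := by
    have ha1 : Commute a (k' * a') := h3.symm.mul_right h5
    have ha2 : Commute a' (k * a) := h2.symm.mul_right h5.symm
    rw [commutatorElement_def, commutatorElement_def]
    calc k * a * (k' * a') * (k * a)⁻¹ * (k' * a')⁻¹ = k * (a * (k' * a')) * a⁻¹ * k⁻¹ * (k' * a')⁻¹ := by group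
      _ = k * (k' * a' * a) * a⁻¹ * k⁻¹ * (k' * a')⁻¹ := by rw [ha1.eq]
      _ = k * k' * (a' * k⁻¹) * a'⁻¹ * k'⁻¹ := by group
      _ = k * k' * (k⁻¹ * a') * a'⁻¹ * k'⁻¹ := by rw [h2.inv_left.eq]
      _ = k * k' * k⁻¹ * k'⁻¹ := by group
  rw [e]
  exact commutator_mem_commutator hk hk'

/-- E1 -/
theorem exists_F {G : Type u} [Group G] [Finite G] : ∃ A F : Subgroup G, A.Normal ∧ F.Normal ∧ A ≤ F ∧
    (∀ x ∈ A, ∀ y ∈ A, x * y = y * x) ∧
    (∀ B : Subgroup G, B.Normal → (∀ x ∈ B, ∀ y ∈ B, x * y = y * x) → A ≤ B → B = A) ∧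
    ((∃ L : Subgroup G, L.Normal ∧ L ≠ ⊥ ∧ ⁅L, L⁆ = L ∧
      ∀ K : Subgroup G, K.Normal → K ≤ L → K = L ∨ ∀ x ∈ K, ∀ y ∈ L, x * y = y * x) ∨
     ((∀ x ∈ F, ∀ y ∈ A, x * y = y * x) ∧ (∀ x ∈ F, ∀ y ∈ F, ⁅x, y⁆ ∈ A) ∧
      (∃ n : ℕ, Squarefree n ∧ ∀ x ∈ F, x ^ n ∈ A) ∧ ∀ g : G, (∀ x ∈ F, g * x = x * g) → g ∈ A)) := by
  classical
  -- the maximal abelian normal subgroup
  obtain ⟨A, ⟨hAn, hAc⟩, hAm⟩ := (wellFounded_gt (α := Subgroup G)).has_min
    {A : Subgroup G | A.Normal ∧ ∀ x ∈ A, ∀ y ∈ A, x * y = y * x} ⟨⊥, inferInstance, by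
      intro x hx y hy
      rw [mem_bot] at hx hy
      rw [hx, hy]⟩
  have hmax : ∀ B : Subgroup G, B.Normal → (∀ x ∈ B, ∀ y ∈ B, x * y = y * x) → A ≤ B → B = A := by
    intro B hB hBc hAB
    by_contra hne
    exact hAm B ⟨hB, hBc⟩ (lt_of_le_of_ne hAB (Ne.symm hne))
  -- the group `F`
  obtain ⟨F, ⟨hFn, hAF, hFA, hFc, n, hn, hFe⟩, hFm⟩ := (wellFounded_gt (α := Subgroup G)).has_min
    {F : Subgroup G | F.Normal ∧ A ≤ F ∧ (∀ x ∈ F, ∀ y ∈ A, x * y = y * x) ∧ (∀ x ∈ F, ∀ y ∈ F, ⁅x, y⁆ ∈ A) ∧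
      ∃ n : ℕ, Squarefree n ∧ ∀ x ∈ F, x ^ n ∈ A} ⟨A, hAn, le_rfl, hAc, fun x hx y hy => by
        rw [commutatorElement_def]
        exact A.mul_mem (A.mul_mem (A.mul_mem hx hy) (A.inv_mem hx)) (A.inv_mem hy),
        1, squarefree_one, fun x hx => by rwa [pow_one]⟩
  refine ⟨A, F, hAn, hFn, hAF, hAc, hmax, ?_⟩
  by_cases hC : ∀ g : G, (∀ x ∈ F, g * x = x * g) → g ∈ A
  · exact Or.inr ⟨hFA, hFc, ⟨n, hn, hFe⟩, hC⟩
  left
  push Not at hC
  obtain ⟨g, hgF, hgA⟩ := hC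
  set D : Subgroup G := centralizer (F : Set G) with hD
  have hDn : D.Normal := inferInstance
  have hmD : ∀ {d : G}, d ∈ D ↔ ∀ x ∈ F, d * x = x * d := by
    intro d
    rw [hD, mem_centralizer_iff]
    exact ⟨fun h x hx => (h x hx).symm, fun h x hx => (h x hx).symm⟩
  have hAD : A ≤ D := fun a ha => hmD.2 fun x hx => (hFA x hx a ha).symm
  have hDA : ∀ x ∈ D, ∀ y ∈ A, x * y = y * x := fun x hx y hy => hmD.1 hx y (hAF hy)
  have hFD : F ⊓ D = A := by
    apply hmax _ inferInstance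
    · rintro x ⟨hx, -⟩ y ⟨-, hy⟩
      exact (hmD.1 hy x hx).symm
    · exact le_inf hAF hAD
  -- the minimal normal subgroup above `A`
  obtain ⟨L₀, ⟨hLn, hAL, hLD⟩, hLm⟩ := (wellFounded_lt (α := Subgroup G)).has_min
    {L₀ : Subgroup G | L₀.Normal ∧ A < L₀ ∧ L₀ ≤ D} ⟨D, hDn, lt_of_le_of_ne hAD (fun h => hgA (by
      rw [h]; exact hmD.2 hgF)), le_rfl⟩
  have hLmin : ∀ B : Subgroup G, B.Normal → A ≤ B → B ≤ L₀ → B = A ∨ B = L₀ := by
    intro B hB hAB hBL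
    by_contra hne
    push Not at hne
    exact hLm B ⟨hB, lt_of_le_of_ne hAB (Ne.symm hne.1), hBL.trans hLD⟩ (lt_of_le_of_ne hBL hne.2)
  have hcen : ∀ x ∈ L₀, ∀ y ∈ A, x * y = y * x := fun x hx y hy => hDA x (hLD hx) y hy
  by_cases hab : ∀ x ∈ L₀, ∀ y ∈ L₀, ⁅x, y⁆ ∈ A
  · -- `L₀ / A` abelian: contradiction
    exfalso
    obtain ⟨y, hyL, hyA⟩ := SetLike.exists_of_lt hAL
    -- a prime power of an element outside `A` in `A`
    obtain ⟨r, hr, z, hzL, hzA, hzr⟩ : ∃ r : ℕ, r.Prime ∧ ∃ z ∈ L₀, z ∉ A ∧ z ^ r ∈ A := by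
      let k := Nat.find (⟨orderOf y, orderOf_pos y, by rw [pow_orderOf_eq_one]; exact A.one_mem⟩ :
        ∃ k : ℕ, 0 < k ∧ y ^ k ∈ A)
      have hk : 0 < k ∧ y ^ k ∈ A := Nat.find_spec (⟨orderOf y, orderOf_pos y, by
        rw [pow_orderOf_eq_one]; exact A.one_mem⟩ : ∃ k : ℕ, 0 < k ∧ y ^ k ∈ A)
      have hkm : ∀ m : ℕ, m < k → ¬ (0 < m ∧ y ^ m ∈ A) := fun m hm => Nat.find_min _ hm
      have hk1 : k ≠ 1 := by
        intro h
        rw [h, pow_one] at hk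
        exact hyA hk.2
      obtain ⟨r, hr, m, hm⟩ := Nat.exists_prime_and_dvd hk1
      have hm0 : 0 < m := Nat.pos_of_ne_zero (by rintro rfl; rw [mul_zero] at hm; omega)
      refine ⟨r, hr, y ^ m, L₀.pow_mem hyL m, fun h => hkm m ?_ ⟨hm0, h⟩, ?_⟩
      · rw [hm]
        exact lt_mul_of_one_lt_left hm0 hr.one_lt
      · rw [← pow_mul, mul_comm, ← hm]
        exact hk.2
    -- powers of products
    have hpow : ∀ x ∈ L₀, ∀ y ∈ L₀, ∀ m : ℕ, ∃ a ∈ A, (x * y) ^ m = x ^ m * y ^ m * a := by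
      intro x hx y hy m
      have hq : ((x : G) : G ⧸ A) * (y : G ⧸ A) = (y : G ⧸ A) * (x : G ⧸ A) := by
        rw [← QuotientGroup.mk_mul, ← QuotientGroup.mk_mul, QuotientGroup.eq]
        have := hab y⁻¹ (L₀.inv_mem hy) x⁻¹ (L₀.inv_mem hx)
        rw [commutatorElement_def, inv_inv, inv_inv] at this
        rw [mul_inv_rev, ← mul_assoc]
        exact this
      have h1 : (((x * y) ^ m : G) : G ⧸ A) = ((x ^ m * y ^ m : G) : G ⧸ A) := by
        rw [QuotientGroup.mk_pow, QuotientGroup.mk_mul, QuotientGroup.mk_mul, QuotientGroup.mk_pow, QuotientGroup.mk_pow]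
        exact (show Commute (x : G ⧸ A) (y : G ⧸ A) from hq).mul_pow m
      rw [QuotientGroup.eq] at h1
      exact ⟨(x ^ m * y ^ m)⁻¹ * (x * y) ^ m, by
        have := A.inv_mem h1
        rwa [mul_inv_rev, inv_inv] at this, by group⟩
    let R : Subgroup G :=
      { carrier := {x | x ∈ L₀ ∧ x ^ r ∈ A}
        one_mem' := ⟨L₀.one_mem, by rw [one_pow]; exact A.one_mem⟩
        mul_mem' := by
          rintro x y ⟨hx, hx'⟩ ⟨hy, hy'⟩
          refine ⟨L₀.mul_mem hx hy, ?_⟩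
          obtain ⟨a, ha, e⟩ := hpow x hx y hy r
          rw [e]
          exact A.mul_mem (A.mul_mem hx' hy') ha
        inv_mem' := by
          rintro x ⟨hx, hx'⟩
          exact ⟨L₀.inv_mem hx, by rw [inv_pow]; exact A.inv_mem hx'⟩ }
    have hRn : R.Normal := ⟨fun x hx g => ⟨hLn.conj_mem x hx.1 g, by
      rw [conj_pow]; exact hAn.conj_mem _ hx.2 g⟩⟩
    have hRL : R = L₀ := by
      rcases hLmin R hRn (fun a ha => ⟨hAL.le ha, A.pow_mem ha r⟩) (fun x hx => hx.1) with h | h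
      · exact absurd (h ▸ (⟨hzL, hzr⟩ : z ∈ R)) hzA
      · exact h
    have hLr : ∀ x ∈ L₀, x ^ r ∈ A := fun x hx => (hRL.symm ▸ hx : x ∈ R).2
    -- the product contradicts the maximality of `F`
    have hLF : ¬ L₀ ≤ F := fun h => hAL.ne (le_antisymm hAL.le (by
      rw [← hFD]; exact le_inf h hLD))
    refine hFm (F ⊔ L₀) ⟨inferInstance, hAF.trans le_sup_left, ?_, ?_, n.lcm r, ?_, ?_⟩ ?_
    · intro x hx y hy
      obtain ⟨f, hf, l, hl, rfl⟩ := mem_sup_of_normal_right.1 hx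
      have h1 : Commute f y := hFA f hf y hy
      have h2 : Commute l y := hcen l hl y hy
      exact (h1.mul_left h2).eq
    · intro x hx y hy
      obtain ⟨f, hf, l, hl, rfl⟩ := mem_sup_of_normal_right.1 hx
      obtain ⟨f', hf', l', hl', rfl⟩ := mem_sup_of_normal_right.1 hy
      have c1 : Commute l f := hmD.1 (hLD hl) f hf
      have c2 : Commute l f' := hmD.1 (hLD hl) f' hf'
      have c3 : Commute l' f := hmD.1 (hLD hl') f hf
      have c4 : Commute l' f' := hmD.1 (hLD hl') f' hf'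
      have e : ⁅f * l, f' * l'⁆ = ⁅f, f'⁆ * ⁅l, l'⁆ := by
        rw [commutatorElement_def, commutatorElement_def, commutatorElement_def]
        have d1 : Commute (f'⁻¹) (l * l' * l⁻¹ * l'⁻¹) :=
          (((c2.symm.inv_left.mul_right c4.symm.inv_left).mul_right c2.symm.inv_left.inv_right).mul_right
            c4.symm.inv_left.inv_right)
        calc f * l * (f' * l') * (f * l)⁻¹ * (f' * l')⁻¹ = f * (l * f') * l' * l⁻¹ * f⁻¹ * l'⁻¹ * f'⁻¹ := by group
          _ = f * (f' * l) * l' * l⁻¹ * f⁻¹ * l'⁻¹ * f'⁻¹ := by rw [c2.eq]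
          _ = f * f' * (l * l' * l⁻¹ * f⁻¹) * l'⁻¹ * f'⁻¹ := by group
          _ = f * f' * (f⁻¹ * (l * l' * l⁻¹)) * l'⁻¹ * f'⁻¹ := by
            rw [(((c1.mul_left c3).mul_left c1.inv_left).inv_right).eq]
          _ = f * f' * f⁻¹ * ((l * l' * l⁻¹ * l'⁻¹) * f'⁻¹) := by group
          _ = f * f' * f⁻¹ * (f'⁻¹ * (l * l' * l⁻¹ * l'⁻¹)) := by rw [d1.eq]
          _ = f * f' * f⁻¹ * f'⁻¹ * (l * l' * l⁻¹ * l'⁻¹) := by group
      rw [e]
      exact A.mul_mem (hFc f hf f' hf') (hab l hl l' hl')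
    · rw [Nat.squarefree_iff_prime_squarefree]
      intro q hq hqq
      have hnr := hr.squarefree
      have h1 : q * q ∣ n ∨ q * q ∣ r := by
        have hn0 : n ≠ 0 := hn.ne_zero
        have hl0 : n.lcm r ≠ 0 := Nat.lcm_ne_zero hn0 hr.ne_zero
        rw [← pow_two] at hqq ⊢
        rw [hq.pow_dvd_iff_le_factorization hl0, Nat.factorization_lcm hn0 hr.ne_zero, Finsupp.sup_apply, le_sup_iff] at hqq
        rw [hq.pow_dvd_iff_le_factorization hn0, hq.pow_dvd_iff_le_factorization hr.ne_zero]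
        exact hqq
      rcases h1 with h1 | h1
      · exact (Nat.squarefree_iff_prime_squarefree.1 hn) q hq h1
      · exact (Nat.squarefree_iff_prime_squarefree.1 hnr) q hq h1
    · intro x hx
      obtain ⟨f, hf, l, hl, rfl⟩ := mem_sup_of_normal_right.1 hx
      have c1 : Commute f l := (hmD.1 (hLD hl) f hf).symm
      rw [c1.mul_pow]
      obtain ⟨i, hi⟩ := Nat.dvd_lcm_left n r
      obtain ⟨j, hj⟩ := Nat.dvd_lcm_right n r
      refine A.mul_mem ?_ ?_
      · rw [hi, pow_mul]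
        exact A.pow_mem (hFe f hf) i
      · rw [hj, pow_mul]
        exact A.pow_mem (hLr l hl) j
    · exact lt_of_le_of_ne le_sup_left (fun h => hLF (h ▸ le_sup_right))
  · -- `L₀ / A` perfect
    have hLA : ¬ ⁅L₀, L₀⁆ ≤ A := by
      intro h
      exact hab fun x hx y hy => h (commutator_mem_commutator hx hy)
    have hLn' : (⁅L₀, L₀⁆ : Subgroup G).Normal := inferInstance
    have hLL : (⁅L₀, L₀⁆ : Subgroup G) ≤ L₀ := commutator_le_left L₀ L₀
    have hsup : ∀ K : Subgroup G, K.Normal → K ≤ L₀ → ¬ K ≤ A → ⁅L₀, L₀⁆ ≤ ⁅K, K⁆ := by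
      intro K hK hKL hKA
      have h1 : K ⊔ A = L₀ := by
        rcases hLmin (K ⊔ A) inferInstance le_sup_right (sup_le hKL hAL.le) with h | h
        · exact absurd (h ▸ le_sup_left) hKA
        · exact h
      have h2 := comm_sup_le (K := K) hAn (by rw [h1]; exact hcen)
      rwa [h1] at h2
    refine ⟨⁅L₀, L₀⁆, hLn', ?_, ?_, ?_⟩
    · intro h
      rw [h] at hLA
      exact hLA bot_le
    · exact le_antisymm (commutator_le_left _ _) (hsup _ hLn' hLL hLA)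
    · intro K hK hKL
      by_cases hKA : K ≤ A
      · right
        intro x hx y hy
        exact (hcen y (hLL hy) x (hKA hx)).symm
      · left
        exact le_antisymm hKL ((hsup K hK (hKL.trans hLL) hKA).trans (commutator_le_left K K))

end Cfsg.Agent.H559.HT
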